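import Cfsg.Agent.Laws.SL2
import Cfsg.Agent.Classical.Transvections
import Cfsg.Prelude.Def_Classical

/-!
A non-trivial word is a law of only boundedly many alternating or classical simple groups:
big rank gives an alternating subgroup, a big field gives an SL₂ subgroup.
-/

set_option autoImplicit false

namespace CfsgLib.Laws.Classical

open Matrix Cfsg

/-- `G` has a substitution sending `w` outside the centre. -/
abbrev Escapes (w : FreeGroup ℕ) (G : Type*) [Group G] : Prop :=
  ∃ f : ℕ → G, FreeGroup.lift f w ∉ Subgroup.center G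

theorem Escapes.map {w : FreeGroup ℕ} {G H : Type*} [Group G] [Group H] (h : Escapes w G)
    (φ : G →* H) (hφ : Function.Injective φ) : Escapes w H := by
  obtain ⟨f, hf⟩ := h
  refine ⟨fun a => φ (f a), fun hc => hf ?_⟩
  rw [← map_lift, Subgroup.mem_center_iff] at hc
  exact Subgroup.mem_center_iff.2 fun g => hφ (by rw [map_mul, map_mul]; exact hc (φ g))

/-- A perfect group escaping a law inside `H` escapes it inside the derived group of `H`. -/
theorem Escapes.map_commutator {w : FreeGroup ℕ} {G H : Type*} [Group G] [Group H]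
    (h : Escapes w G) (hG : commutator G = ⊤) (φ : G →* H) (hφ : Function.Injective φ) :
    Escapes w (commutator H) := by
  have hmem : ∀ g, φ g ∈ commutator H := fun g => by
    have h1 : (commutator G).map φ ≤ commutator H := by
      rw [map_commutator_eq]
      exact Subgroup.commutator_mono le_top le_top
    exact h1 ⟨g, by simp [hG], rfl⟩
  exact h.map (φ.codRestrict (commutator H) hmem) fun a b hab => hφ (congrArg Subtype.val hab)

theorem Escapes.quotient_not_law {w : FreeGroup ℕ} {G : Type*} [Group G] (h : Escapes w G) :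
    ∃ f : ℕ → G ⧸ Subgroup.center G, FreeGroup.lift f w ≠ 1 := by
  obtain ⟨f, hf⟩ := h
  refine ⟨fun a => QuotientGroup.mk' _ (f a), fun hc => hf ?_⟩
  rwa [← map_lift, QuotientGroup.mk'_apply, QuotientGroup.eq_one_iff] at hc

/-- The two thresholds: big alternating groups and SL₂ over big fields escape every word. -/
theorem exists_threshold (w : FreeGroup ℕ) (hw : w ≠ 1) :
    ∃ R : ℕ, 5 ≤ R ∧ (∀ n : ℕ, R ≤ n → Escapes w (alternatingGroup (Fin n))) ∧
      ∀ (F : Type) [Field F] [Fintype F], R ≤ Fintype.card F →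
        Escapes w (Matrix.SpecialLinearGroup (Fin 2) F) := by
  classical
  obtain ⟨M, r, hr⟩ := exists_fin_word w hw
  refine ⟨2 * (w.toWord.length + 1) + 2 * M + (FreeGroup.map r w).toWord.length * 2 + 5,
    by omega, fun n hn => ?_, fun F _ _ hF => ?_⟩
  · obtain ⟨f, hf⟩ := exists_alternating_ne_one w hw n (by omega)
    refine ⟨f, ?_⟩
    rw [alternatingGroup.center_eq_bot (by simp; omega), Subgroup.mem_bot]
    exact hf
  · obtain ⟨f, hf⟩ := exists_sl2_not_scalar (FreeGroup.map r w) hr F
      (by rw [Fintype.card_fin]; omega) (by omega)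
    refine ⟨fun a => f (r a), fun h => ?_⟩
    rw [lift_comp r f, Matrix.SpecialLinearGroup.mem_center_iff] at h
    obtain ⟨c, -, hc⟩ := h
    exact hf c (by rw [← hc]; simp [Matrix.smul_one_eq_diagonal])

section Blocks

variable {F : Type*} [Field F]

/-- Block embedding of SL_ι into SL_n along `ι ⊕ κ ≃ n`. -/
def slBlock {ι κ n : Type*} [Fintype ι] [DecidableEq ι] [Fintype κ] [DecidableEq κ] [Fintype n]
    [DecidableEq n] (e : ι ⊕ κ ≃ n) :
    Matrix.SpecialLinearGroup ι F →* Matrix.SpecialLinearGroup n F where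
  toFun g := ⟨Matrix.reindex e e (Matrix.fromBlocks (g : Matrix ι ι F) 0 0 1), by
    simp [Matrix.det_reindex_self, Matrix.det_fromBlocks_zero₁₂]⟩
  map_one' := by ext i j; simp [Matrix.one_apply]
  map_mul' a b := by
    apply Subtype.ext
    change Matrix.reindex e e (Matrix.fromBlocks ((a : Matrix ι ι F) * (b : Matrix ι ι F)) 0 0 1) =
      Matrix.reindex e e (Matrix.fromBlocks (a : Matrix ι ι F) 0 0 1) *
        Matrix.reindex e e (Matrix.fromBlocks (b : Matrix ι ι F) 0 0 1)
    simp [Matrix.submatrix_mul_equiv, Matrix.fromBlocks_multiply]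

theorem slBlock_injective {ι κ n : Type*} [Fintype ι] [DecidableEq ι] [Fintype κ] [DecidableEq κ]
    [Fintype n] [DecidableEq n] (e : ι ⊕ κ ≃ n) :
    Function.Injective (slBlock (F := F) e) := fun a b h => by
  have h1 := (Matrix.reindex e e).injective (congrArg Subtype.val h)
  exact Subtype.ext (Matrix.fromBlocks_inj.1 h1).1

/-- Even permutations as matrices of determinant one. -/
def altToSL (n : ℕ) : alternatingGroup (Fin n) →* Matrix.SpecialLinearGroup (Fin n) F where
  toFun σ := ⟨Matrix.permMatrixHom (R := F) (σ : Equiv.Perm (Fin n)), by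
    simp [Equiv.Perm.mem_alternatingGroup.1 σ.2]⟩
  map_one' := Subtype.ext (by simp)
  map_mul' a b := Subtype.ext (by
    exact map_mul (Matrix.permMatrixHom (R := F)) (a : Equiv.Perm (Fin n)) b)

theorem altToSL_injective (n : ℕ) : Function.Injective (altToSL (F := F) n) := fun a b h => by
  apply Subtype.ext
  have h1 : Matrix.permMatrixHom (R := F) (a : Equiv.Perm (Fin n)) =
      Matrix.permMatrixHom (R := F) (b : Equiv.Perm (Fin n)) := congrArg Subtype.val h
  have h2 := PEquiv.toMatrix_injective h1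
  refine inv_injective (Equiv.ext fun i => Option.some_injective _ ?_)
  exact congrArg (fun f : Fin n ≃. Fin n => f i) h2

/-- `A ↦ diag(A, A⁻ᵀ)`. -/
def hypBlock {m : ℕ} (A : Matrix.SpecialLinearGroup (Fin m) F) :
    Matrix (Fin m ⊕ Fin m) (Fin m ⊕ Fin m) F :=
  Matrix.fromBlocks (A : Matrix (Fin m) (Fin m) F) 0 0
    ((A⁻¹ : Matrix.SpecialLinearGroup (Fin m) F) : Matrix (Fin m) (Fin m) F)ᵀ

theorem hypBlock_mul {m : ℕ} (A B : Matrix.SpecialLinearGroup (Fin m) F) :
    hypBlock (A * B) = hypBlock A * hypBlock B := by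
  simp [hypBlock, Matrix.fromBlocks_multiply, Matrix.transpose_mul]

theorem hypBlock_one {m : ℕ} : hypBlock (1 : Matrix.SpecialLinearGroup (Fin m) F) = 1 := by
  simp [hypBlock]

theorem hypBlock_injective {m : ℕ} : Function.Injective (hypBlock (F := F) (m := m)) :=
  fun _ _ h => Subtype.ext (Matrix.fromBlocks_inj.1 h).1

theorem inv_mul_coe {m : ℕ} (A : Matrix.SpecialLinearGroup (Fin m) F) :
    ((A⁻¹ : Matrix.SpecialLinearGroup (Fin m) F) : Matrix (Fin m) (Fin m) F) *
      (A : Matrix (Fin m) (Fin m) F) = 1 := by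
  rw [← Matrix.SpecialLinearGroup.coe_mul, inv_mul_cancel, Matrix.SpecialLinearGroup.coe_one]

theorem hypBlock_sum {m : ℕ} (A : Matrix.SpecialLinearGroup (Fin m) F) (u : Fin m ⊕ Fin m → F) :
    ∑ i, (hypBlock A *ᵥ u) (.inl i) * (hypBlock A *ᵥ u) (.inr i) =
      ∑ i, u (.inl i) * u (.inr i) := by
  simp only [hypBlock, Matrix.fromBlocks_mulVec, Matrix.zero_mulVec, add_zero, zero_add,
    Sum.elim_inl, Sum.elim_inr]
  change ((A : Matrix (Fin m) (Fin m) F) *ᵥ (u ∘ Sum.inl)) ⬝ᵥ
    ((((A⁻¹ : Matrix.SpecialLinearGroup (Fin m) F) : Matrix (Fin m) (Fin m) F)ᵀ) *ᵥ (u ∘ Sum.inr)) =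
      (u ∘ Sum.inl) ⬝ᵥ (u ∘ Sum.inr)
  rw [dotProduct_comm, Matrix.mulVec_transpose, ← Matrix.dotProduct_mulVec, Matrix.mulVec_mulVec,
    inv_mul_coe, Matrix.one_mulVec, dotProduct_comm]

/-- SL_m inside Sp_{2m}. -/
def slToSp (m : ℕ) :
    Matrix.SpecialLinearGroup (Fin m) F →* Matrix.symplecticGroup (Fin m) F where
  toFun A := ⟨hypBlock A, by
    rw [SymplecticGroup.mem_iff, hypBlock, Matrix.J, Matrix.fromBlocks_transpose,
      Matrix.fromBlocks_multiply, Matrix.fromBlocks_multiply]
    have h1 : (A : Matrix (Fin m) (Fin m) F) *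
        ((A⁻¹ : Matrix.SpecialLinearGroup (Fin m) F) : Matrix (Fin m) (Fin m) F) = 1 := by
      rw [← Matrix.SpecialLinearGroup.coe_mul, mul_inv_cancel, Matrix.SpecialLinearGroup.coe_one]
    simp [← Matrix.transpose_mul, h1, -Matrix.SpecialLinearGroup.coe_inv]⟩
  map_one' := Subtype.ext hypBlock_one
  map_mul' A B := Subtype.ext (hypBlock_mul A B)

theorem slToSp_injective (m : ℕ) : Function.Injective (slToSp (F := F) m) := fun _ _ h =>
  hypBlock_injective (congrArg Subtype.val h)

/-- A homomorphism of matrices preserving a function gives a map into its isometry group. -/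
def toIsometry {ι : Type} [Fintype ι] [DecidableEq ι] {G : Type*} [Group G]
    (Q : (ι → F) → F) (ψ : G →* Matrix ι ι F) (h : ∀ g u, Q (ψ g *ᵥ u) = Q u) :
    G →* isometryGroup F Q :=
  ψ.toHomUnits.codRestrict _ fun g u _ => h g u

theorem toIsometry_injective {ι : Type} [Fintype ι] [DecidableEq ι] {G : Type*} [Group G]
    (Q : (ι → F) → F) (ψ : G →* Matrix ι ι F) (h : ∀ g u, Q (ψ g *ᵥ u) = Q u)
    (hψ : Function.Injective ψ) : Function.Injective (toIsometry Q ψ h) := fun a b hab =>
  hψ (congrArg Units.val (congrArg Subtype.val hab))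

theorem exists_embed_plus (m : ℕ) :
    ∃ φ : Matrix.SpecialLinearGroup (Fin m) F →* isometryGroup F (quadFormPlus m F),
      Function.Injective φ :=
  ⟨toIsometry _ { toFun := hypBlock, map_one' := hypBlock_one, map_mul' := hypBlock_mul }
      (fun A u => hypBlock_sum A u), toIsometry_injective _ _ _ hypBlock_injective⟩

theorem exists_embed_odd (m : ℕ) :
    ∃ φ : Matrix.SpecialLinearGroup (Fin m) F →* isometryGroup F (quadFormOdd m F),
      Function.Injective φ := by
  refine ⟨toIsometry _
    { toFun := fun A => Matrix.fromBlocks (1 : Matrix Unit Unit F) 0 0 (hypBlock A)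
      map_one' := by simp [hypBlock_one]
      map_mul' := fun A B => by simp [hypBlock_mul, Matrix.fromBlocks_multiply] } ?_,
    toIsometry_injective _ _ _ fun A B h => hypBlock_injective (Matrix.fromBlocks_inj.1 h).2.2.2⟩
  intro A u
  have := hypBlock_sum A (u ∘ Sum.inr)
  simp only [Function.comp_apply] at this
  simp [quadFormOdd, Matrix.fromBlocks_mulVec, this]

theorem exists_embed_minus (m : ℕ) (a b : F) :
    ∃ φ : Matrix.SpecialLinearGroup (Fin m) F →* isometryGroup F (quadFormMinus m F a b),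
      Function.Injective φ := by
  refine ⟨toIsometry _
    { toFun := fun A => Matrix.fromBlocks (hypBlock A) 0 0 (1 : Matrix (Fin 2) (Fin 2) F)
      map_one' := by simp [hypBlock_one]
      map_mul' := fun A B => by simp [hypBlock_mul, Matrix.fromBlocks_multiply] } ?_,
    toIsometry_injective _ _ _ fun A B h => hypBlock_injective (Matrix.fromBlocks_inj.1 h).1⟩
  intro A u
  have := hypBlock_sum A (u ∘ Sum.inl)
  simp only [Function.comp_apply] at this
  simp [quadFormMinus, Matrix.fromBlocks_mulVec, this]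

end Blocks

end CfsgLib.Laws.Classical
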