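import Cfsg.Agent.Laws.Unitary

/-!
A non-trivial word is a law of only boundedly many alternating or classical simple groups.
-/

set_option autoImplicit false

namespace CfsgLib.Laws.Classical

open Matrix Cfsg

theorem card_le_of_injective_matrix {S ι F : Type*} [Fintype ι] [DecidableEq ι] [Fintype F]
    (φ : S → Matrix ι ι F) (hφ : Function.Injective φ) :
    Nat.card S ≤ Fintype.card F ^ (Fintype.card ι * Fintype.card ι) := by
  refine (Nat.card_le_card_of_injective φ hφ).trans ?_
  change Nat.card (ι → ι → F) ≤ _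
  rw [Nat.card_fun, Nat.card_fun, Nat.card_eq_fintype_card, Nat.card_eq_fintype_card, ← pow_mul]

theorem bound_case {G : Type*} {S : Type*} [Group G] [Group S] (w : FreeGroup ℕ)
    (hlaw : ∀ f : ℕ → G, FreeGroup.lift f w = 1) (e : G ≃* S ⧸ Subgroup.center S) :
    ¬ Escapes w S := by
  intro h
  obtain ⟨f, hf⟩ := h.quotient_not_law
  obtain ⟨f', hf'⟩ := not_law_of_injective e.symm.toMonoidHom e.symm.injective w ⟨f, hf⟩
  exact hf' (hlaw f')

/-- The order bound when both the dimension and the field are bounded. -/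
theorem card_le_bound {G : Type*} {S : Type*} [Group G] [Group S] [Finite S] {ι F : Type*}
    [Fintype ι] [DecidableEq ι] [Fintype F] (φ : S → Matrix ι ι F) (hφ : Function.Injective φ)
    (e : G ≃* S ⧸ Subgroup.center S) {d b : ℕ} (hd : Fintype.card ι ≤ d)
    (hb : Fintype.card F ≤ b) (hb0 : 1 ≤ b) :
    Nat.card G ≤ b ^ (d * d) := by
  rw [Nat.card_congr e.toEquiv]
  refine (Nat.card_le_card_of_surjective _ (QuotientGroup.mk_surjective)).trans ?_
  refine (card_le_of_injective_matrix φ hφ).trans ?_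
  exact (Nat.pow_le_pow_left hb _).trans (Nat.pow_le_pow_right hb0 (Nat.mul_le_mul hd hd))

theorem exists_finSum {m : ℕ} (hm : 2 ≤ m) : Nonempty (Fin 2 ⊕ Fin (m - 2) ≃ Fin m) :=
  ⟨finSumFinEquiv.trans (finCongr (by omega))⟩

/-- The bound on alternating and classical groups satisfying a given law. -/
theorem exists_bound_classical (w : FreeGroup ℕ) (hw : w ≠ 1) :
    ∃ N : ℕ, ∀ (G : Type*) [Group G] [Finite G],
      (Cfsg.IsAlternating G ∨ Cfsg.IsPSL G ∨ Cfsg.IsPSp G ∨ Cfsg.IsPSU G ∨ Cfsg.IsPOmegaOdd G ∨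
          Cfsg.IsPOmegaPlus G ∨ Cfsg.IsPOmegaMinus G) →
      (∀ f : ℕ → G, FreeGroup.lift f w = 1) → Nat.card G ≤ N := by
  obtain ⟨R, hR5, hA, hL⟩ := exists_threshold w hw
  have hperfA : ∀ m : ℕ, R ≤ m → commutator (alternatingGroup (Fin m)) = ⊤ := fun m hm =>
    commutator_alternatingGroup_eq_top (by simp; omega)
  -- an escaping perfect group inside SL_m (m ≥ 2), given big rank or a big field
  have hperf : ∀ (F : Type) [Field F] [Fintype F] (m : ℕ), 2 ≤ m →
      R ≤ m ∨ R ≤ Fintype.card F →
      Escapes w (Matrix.SpecialLinearGroup (Fin m) F) ∧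
        commutator (Matrix.SpecialLinearGroup (Fin m) F) = ⊤ := by
    intro F _ _ m hm h
    classical
    refine ⟨?_, CfsgLib.Linear.commutator_SL_eq_top ?_⟩
    · rcases h with h | h
      · exact (hA m h).map (altToSL m) (altToSL_injective m)
      · obtain ⟨e⟩ := exists_finSum hm
        exact (hL F h).map (slBlock e) (slBlock_injective e)
    · rcases h with h | h
      · exact Or.inl (by simp; omega)
      · refine Or.inr ?_
        by_contra hx
        push Not at hx
        have h1 : (Finset.univ : Finset F) ⊆ {0, 1, -1} := fun x _ => by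
          simp only [Finset.mem_insert, Finset.mem_singleton]
          by_cases h0 : x = 0
          · exact Or.inl h0
          · exact Or.inr (sq_eq_one_iff.1 (hx x h0))
        have h2 := (Finset.card_le_card h1).trans Finset.card_le_three
        rw [Finset.card_univ] at h2
        omega
  refine ⟨Nat.factorial R + ((R + 1) * (R + 1)) ^ ((2 * R + 5) * (2 * R + 5)), fun G _ _ hG hlaw =>
    ?_⟩
  rcases hG with ⟨n, -, ⟨e⟩⟩ | ⟨F, _, _, n, hn, -, ⟨e⟩⟩ | ⟨F, _, _, m, hm, -, ⟨e⟩⟩ |
    ⟨F, _, _, n, q, hF, hn, -, ⟨e⟩⟩ | ⟨F, _, _, m, hm, -, ⟨e⟩⟩ | ⟨F, _, _, m, hm, ⟨e⟩⟩ |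
    ⟨F, _, _, m, a, b, hm, -, ⟨e⟩⟩
  · by_cases h : R ≤ n
    · obtain ⟨f, hf⟩ := hA n h
      obtain ⟨f', hf'⟩ := not_law_of_injective e.symm.toMonoidHom e.symm.injective w
        ⟨f, fun h1 => hf (h1 ▸ one_mem _)⟩
      exact absurd (hlaw f') hf'
    · refine le_add_right ?_
      rw [Nat.card_congr e.toEquiv]
      refine (Nat.card_le_card_of_injective _ Subtype.val_injective).trans ?_
      rw [Nat.card_eq_fintype_card, Fintype.card_perm, Fintype.card_fin]
      exact Nat.factorial_le (by omega)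
  all_goals
    classical
    refine le_add_left ?_
  · by_cases h : R ≤ n ∨ R ≤ Fintype.card F
    · exact absurd (hperf F n hn h).1 (bound_case w hlaw e)
    · exact card_le_bound (fun g : Matrix.SpecialLinearGroup (Fin n) F => (g : Matrix (Fin n) (Fin n) F))
        Subtype.val_injective e
        (by simp; omega) (le_trans (by omega) (Nat.le_mul_self (R + 1))) (by nlinarith)
  · by_cases h : R ≤ m ∨ R ≤ Fintype.card F
    · exact absurd ((hperf F m hm h).1.map (slToSp m) (slToSp_injective m)) (bound_case w hlaw e)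
    · exact card_le_bound (fun g : Matrix.symplecticGroup (Fin m) F => (g : Matrix (Fin m ⊕ Fin m) (Fin m ⊕ Fin m) F))
        Subtype.val_injective e
        (by simp; omega) (le_trans (by omega) (Nat.le_mul_self (R + 1))) (by nlinarith)
  · by_cases h : R ≤ n ∨ R + 1 ≤ q
    · refine absurd ?_ (bound_case w hlaw e)
      rcases h with h | h
      · obtain ⟨φ, hφ⟩ := exists_alt_to_SU (F := F) (q := q) n
        exact (hA n h).map φ hφ
      · obtain ⟨K, _, _, hK, φ, hφ⟩ := exists_sl2_to_SU n (by omega) hF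
        exact (hL K (by omega)).map φ hφ
    · refine card_le_bound (fun g : Cfsg.SU n F q =>
          ((g : Matrix.SpecialLinearGroup (Fin n) F) : Matrix (Fin n) (Fin n) F))
        (Subtype.val_injective.comp Subtype.val_injective) e (by simp; omega) ?_ (by nlinarith)
      rw [hF, ← pow_two (R + 1)]
      exact Nat.pow_le_pow_left (by omega) _
  · by_cases h : R ≤ m ∨ R ≤ Fintype.card F
    · obtain ⟨φ, hφ⟩ := exists_embed_odd (F := F) m
      obtain ⟨h1, h2⟩ := hperf F m (by omega) h
      exact absurd (h1.map_commutator h2 φ hφ) (bound_case w hlaw e)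
    · exact card_le_bound
        (fun g : Cfsg.Omega F (quadFormOdd m F) => (((g.1).1 : GL (Unit ⊕ (Fin m ⊕ Fin m)) F) :
          Matrix (Unit ⊕ (Fin m ⊕ Fin m)) (Unit ⊕ (Fin m ⊕ Fin m)) F))
        (Units.val_injective.comp (Subtype.val_injective.comp Subtype.val_injective)) e
        (by simp; omega) (le_trans (by omega) (Nat.le_mul_self (R + 1))) (by nlinarith)
  · by_cases h : R ≤ m ∨ R ≤ Fintype.card F
    · obtain ⟨φ, hφ⟩ := exists_embed_plus (F := F) m
      obtain ⟨h1, h2⟩ := hperf F m (by omega) h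
      exact absurd (h1.map_commutator h2 φ hφ) (bound_case w hlaw e)
    · exact card_le_bound
        (fun g : Cfsg.Omega F (quadFormPlus m F) => (((g.1).1 : GL (Fin m ⊕ Fin m) F) :
          Matrix (Fin m ⊕ Fin m) (Fin m ⊕ Fin m) F))
        (Units.val_injective.comp (Subtype.val_injective.comp Subtype.val_injective)) e
        (by simp; omega) (le_trans (by omega) (Nat.le_mul_self (R + 1))) (by nlinarith)
  · by_cases h : R ≤ m - 1 ∨ R ≤ Fintype.card F
    · obtain ⟨φ, hφ⟩ := exists_embed_minus (m - 1) a b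
      obtain ⟨h1, h2⟩ := hperf F (m - 1) (by omega) h
      exact absurd (h1.map_commutator h2 φ hφ) (bound_case w hlaw e)
    · exact card_le_bound
        (fun g : Cfsg.Omega F (quadFormMinus (m - 1) F a b) =>
          (((g.1).1 : GL ((Fin (m - 1) ⊕ Fin (m - 1)) ⊕ Fin 2) F) :
            Matrix ((Fin (m - 1) ⊕ Fin (m - 1)) ⊕ Fin 2) ((Fin (m - 1) ⊕ Fin (m - 1)) ⊕ Fin 2) F))
        (Units.val_injective.comp (Subtype.val_injective.comp Subtype.val_injective)) e
        (by simp; omega) (le_trans (by omega) (Nat.le_mul_self (R + 1))) (by nlinarith)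

end CfsgLib.Laws.Classical
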