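import Mathlib.GroupTheory.FreeGroup.Reduce
import Mathlib.GroupTheory.SpecificGroups.Alternating
import Mathlib.GroupTheory.Perm.ViaEmbedding
import Mathlib.Logic.Equiv.Fintype

/-!
Word evaluation in free groups, residual finiteness by partial injections, and the fact that a
non-trivial word is not a law in any sufficiently large alternating group.
-/

set_option autoImplicit false

namespace CfsgLib.Laws

/-- The value of a letter under a substitution. -/
abbrev letterVal {α : Type*} {G : Type*} [Group G] (f : α → G) (x : α × Bool) : G :=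
  cond x.2 (f x.1) (f x.1)⁻¹

theorem lift_eq_prod {α : Type*} [DecidableEq α] {G : Type*} [Group G] (f : α → G)
    (w : FreeGroup α) : FreeGroup.lift f w = (w.toWord.map (letterVal f)).prod := by
  conv_lhs => rw [← FreeGroup.mk_toWord (x := w)]
  exact FreeGroup.lift_mk

theorem map_lift {α G H : Type*} [Group G] [Group H] (φ : G →* H) (f : α → G) (w : FreeGroup α) :
    φ (FreeGroup.lift f w) = FreeGroup.lift (fun a => φ (f a)) w := by
  have : φ.comp (FreeGroup.lift f) = FreeGroup.lift (fun a => φ (f a)) :=
    FreeGroup.ext_hom _ _ (by simp)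
  exact DFunLike.congr_fun this w

/-- A law of a group is a law of every group mapping onto a subgroup of it injectively. -/
theorem not_law_of_injective {G H : Type*} [Group G] [Group H] (φ : G →* H)
    (hφ : Function.Injective φ) (w : FreeGroup ℕ) (h : ∃ f : ℕ → G, FreeGroup.lift f w ≠ 1) :
    ∃ f : ℕ → H, FreeGroup.lift f w ≠ 1 := by
  obtain ⟨f, hf⟩ := h
  refine ⟨fun a => φ (f a), fun h1 => hf (hφ ?_)⟩
  rw [map_lift, h1, map_one]

/-- If a quotient of `G` fails the law, so does `G`. -/
theorem not_law_of_surjective {G H : Type*} [Group G] [Group H] (φ : G →* H)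
    (hφ : Function.Surjective φ) (w : FreeGroup ℕ) (h : ∃ f : ℕ → H, FreeGroup.lift f w ≠ 1) :
    ∃ f : ℕ → G, FreeGroup.lift f w ≠ 1 := by
  obtain ⟨f, hf⟩ := h
  refine ⟨fun a => Function.surjInv hφ (f a), fun h1 => hf ?_⟩
  have h2 := map_lift φ (fun a => Function.surjInv hφ (f a)) w
  rw [h1, map_one] at h2
  simpa [Function.surjInv_eq hφ] using h2.symm

/-- Permutations of `Fin (|w| + 1)` detecting a reduced word. -/
theorem exists_perm_ne_one {α : Type*} [DecidableEq α] (w : FreeGroup α) (hw : w ≠ 1) :
    ∃ f : α → Equiv.Perm (Fin (w.toWord.length + 1)), FreeGroup.lift f w ≠ 1 := by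
  classical
  set L := w.toWord with hL
  let l := L.length
  have hred : FreeGroup.IsReduced L := FreeGroup.isReduced_toWord
  have hchain : ∀ (i : ℕ) (h : i + 1 < L.length), L[i].1 = L[i + 1].1 → L[i].2 = L[i + 1].2 :=
    fun i h => List.IsChain.getElem hred i h
  let src : Fin L.length → Fin (L.length + 1) := fun i => if L[i].2 then i.succ else i.castSucc
  let tgt : Fin L.length → Fin (L.length + 1) := fun i => if L[i].2 then i.castSucc else i.succ
  have key : ∀ i j : Fin L.length, L[i].1 = L[j].1 → L[i].2 ≠ L[j].2 → i.val + 1 ≠ j.val := by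
    intro i j h1 h2 h3
    have := hchain i.val (h3 ▸ j.isLt)
    simp only [Fin.getElem_fin, h3] at this h1 h2
    exact h2 (this h1)
  have hperm : ∀ a : α, ∃ π : Equiv.Perm (Fin (L.length + 1)),
      ∀ i : Fin L.length, L[i].1 = a → π (src i) = tgt i := by
    intro a
    let s : {i : Fin L.length // L[i].1 = a} → Fin (L.length + 1) := fun i => src i
    let t : {i : Fin L.length // L[i].1 = a} → Fin (L.length + 1) := fun i => tgt i
    have hs : Function.Injective s := by
      rintro ⟨i, hi⟩ ⟨j, hj⟩ h
      have h1 := key i j (hi.trans hj.symm)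
      have h2 := key j i (hj.trans hi.symm)
      simp only [s, src] at h
      apply Subtype.ext; apply Fin.ext
      rcases Bool.eq_false_or_eq_true L[i].2 with bi | bi <;>
        rcases Bool.eq_false_or_eq_true L[j].2 with bj | bj <;>
        simp only [Fin.getElem_fin] at bi bj h h1 h2 <;>
        simp [bi, bj, Fin.ext_iff] at h h1 h2 <;> omega
    have ht : Function.Injective t := by
      rintro ⟨i, hi⟩ ⟨j, hj⟩ h
      have h1 := key i j (hi.trans hj.symm)
      have h2 := key j i (hj.trans hi.symm)
      simp only [t, tgt] at h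
      apply Subtype.ext; apply Fin.ext
      rcases Bool.eq_false_or_eq_true L[i].2 with bi | bi <;>
        rcases Bool.eq_false_or_eq_true L[j].2 with bj | bj <;>
        simp only [Fin.getElem_fin] at bi bj h h1 h2 <;>
        simp [bi, bj, Fin.ext_iff] at h h1 h2 <;> omega
    let e : {x // x ∈ Set.range s} ≃ {x // x ∈ Set.range t} :=
      (Equiv.ofInjective s hs).symm.trans (Equiv.ofInjective t ht)
    refine ⟨e.extendSubtype, fun i hi => ?_⟩
    have : src i ∈ Set.range s := ⟨⟨i, hi⟩, rfl⟩
    rw [Equiv.extendSubtype_apply_of_mem _ _ this]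
    change (Equiv.ofInjective t ht ((Equiv.ofInjective s hs).symm ⟨src i, this⟩)).1 = tgt i
    rw [show (Equiv.ofInjective s hs).symm ⟨src i, this⟩ = ⟨i, hi⟩ from
      Equiv.ofInjective_symm_apply hs ⟨i, hi⟩]
    rfl
  choose π hπ using hperm
  refine ⟨π, fun h => ?_⟩
  rw [lift_eq_prod, ← hL] at h
  have step : ∀ i : Fin L.length, letterVal π L[i] i.succ = i.castSucc := by
    intro i
    have hh := hπ L[i].1 i rfl
    simp only [src, tgt] at hh
    cases hb : L[i].2 <;> simp only [letterVal, hb, cond_true, cond_false, if_true] at hh ⊢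
    · simp only [Bool.false_eq_true, if_false] at hh
      rw [Equiv.Perm.inv_eq_iff_eq]; exact hh.symm
    · exact hh
  have hdrop : ∀ k i : ℕ, i + k = L.length → ∀ hi : i < L.length + 1,
      ((L.drop i).map (letterVal π)).prod (Fin.last _) = ⟨i, hi⟩ := by
    intro k
    induction k with
    | zero => intro i h hi; simp at h; subst h; simp [Fin.last]
    | succ k ih =>
      intro i h hi
      have hil : i < L.length := by omega
      rw [List.drop_eq_getElem_cons hil, List.map_cons, List.prod_cons, Equiv.Perm.mul_apply,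
        ih (i + 1) (by omega) (by omega)]
      simpa using step ⟨i, hil⟩
  have := hdrop L.length 0 (by simp) (Nat.succ_pos _)
  rw [List.drop_zero, h, Equiv.Perm.one_apply] at this
  have h0 : L.length ≠ 0 := by
    rw [Ne, List.length_eq_zero_iff, hL, FreeGroup.toWord_eq_nil_iff]; exact hw
  exact h0 (by simpa [Fin.ext_iff] using this)

/-- A word failing in `Perm (Fin m)` fails in every alternating group of degree at least `2m`. -/
theorem exists_alternating_ne_one (w : FreeGroup ℕ) (hw : w ≠ 1) (n : ℕ)
    (hn : 2 * (w.toWord.length + 1) ≤ n) :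
    ∃ f : ℕ → alternatingGroup (Fin n), FreeGroup.lift f w ≠ 1 := by
  classical
  obtain ⟨f, hf⟩ := exists_perm_ne_one w hw
  set m := w.toWord.length + 1
  let ι : Fin m ⊕ Fin m ↪ Fin n := finSumFinEquiv.toEmbedding.trans (Fin.castLEEmb (by omega))
  let φ : Equiv.Perm (Fin m) →* Equiv.Perm (Fin n) :=
    (Equiv.Perm.viaEmbeddingHom ι).comp
      ((Equiv.Perm.sumCongrHom (Fin m) (Fin m)).comp ((MonoidHom.id _).prod (MonoidHom.id _)))
  have hφ : ∀ σ, φ σ ∈ alternatingGroup (Fin n) := by
    intro σ
    rw [Equiv.Perm.mem_alternatingGroup]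
    change Equiv.Perm.sign (Equiv.Perm.viaEmbedding (Equiv.sumCongr σ σ) ι) = 1
    rw [Equiv.Perm.viaEmbedding]
    erw [Equiv.Perm.sign_extendDomain]
    rw [Equiv.Perm.sign_sumCongr, Int.units_mul_self]
  have hinj : Function.Injective (φ.codRestrict _ hφ) := by
    intro a b hab
    have h1 : φ a = φ b := congrArg Subtype.val hab
    have h2 := Equiv.Perm.viaEmbeddingHom_injective ι h1
    have h3 := Equiv.Perm.sumCongrHom_injective h2
    simpa using congrArg Prod.fst h3
  exact not_law_of_injective _ hinj w ⟨_, hf⟩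

end CfsgLib.Laws
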