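import Cfsg.Agent.Laws.FreeWord
import Mathlib.Data.Matrix.Mul
import Mathlib.Data.Matrix.Basic
import Mathlib.Algebra.Polynomial.Roots
import Mathlib.Data.Fintype.Card

/-!
The leading-term argument: a reduced word in one-parameter families of matrices, each of whose
leading coefficients is a rank-one matrix in general position, takes a non-scalar value somewhere.
-/

set_option autoImplicit false

namespace CfsgLib.Laws

open Polynomial Matrix

variable {α : Type*} {n : Type*} [Fintype n] [DecidableEq n] {F : Type*} [Field F]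

theorem prod_smul_eq {β : Type*} (L : List β) (g M : β → Matrix n n F) (c : F)
    (h : ∀ x, g x = c • M x) : (L.map g).prod = c ^ L.length • (L.map M).prod := by
  induction L with
  | nil => simp
  | cons x L ih =>
    rw [List.map_cons, List.prod_cons, List.map_cons, List.prod_cons, ih, h, smul_mul_smul_comm,
      List.length_cons, pow_succ']

/-- Degree and leading coefficient of a product of polynomial matrices. -/
theorem coeff_matrix_list_prod {β : Type*} (L : List β) (M : β → Matrix n n F[X]) (d : ℕ)
    (hd : ∀ x i j, (M x i j).natDegree ≤ d) :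
    (∀ i j, ((L.map M).prod i j).natDegree ≤ L.length * d) ∧
      (L.map M).prod.map (fun p => p.coeff (L.length * d)) =
        (L.map fun x => (M x).map (fun p => p.coeff d)).prod := by
  induction L with
  | nil =>
    refine ⟨fun i j => ?_, ?_⟩
    · by_cases h : i = j <;> simp [h]
    · ext i j
      by_cases h : i = j <;> simp [h]
  | cons x L ih =>
    obtain ⟨h1, h2⟩ := ih
    simp only [List.map_cons, List.prod_cons, List.length_cons]
    have hlen : (L.length + 1) * d = d + L.length * d := by ring
    refine ⟨fun i j => ?_, ?_⟩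
    · rw [Matrix.mul_apply, hlen]
      refine natDegree_sum_le_of_forall_le _ _ fun k _ => ?_
      exact natDegree_mul_le_of_le (hd x i k) (h1 k j)
    · rw [← h2]
      ext i j
      rw [Matrix.map_apply, Matrix.mul_apply, finsetSum_coeff, Matrix.mul_apply, hlen]
      refine Finset.sum_congr rfl fun k _ => ?_
      exact coeff_mul_add_eq_of_natDegree_le (hd x i k) (h1 k j)

variable [Fintype F]

/-- A polynomial with few roots does not vanish at all non-zero points of a big field. -/
theorem exists_ne_zero_eval_ne_zero (h : F[X]) (hne : h ≠ 0)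
    (hq : h.natDegree + 1 < Fintype.card F) : ∃ y : F, y ≠ 0 ∧ h.eval y ≠ 0 := by
  classical
  by_contra hcon
  push Not at hcon
  have h0 : h * X ≠ 0 := mul_ne_zero hne X_ne_zero
  have hall : ∀ y : F, y ∈ (h * X).roots := fun y => by
    rw [mem_roots h0, IsRoot, eval_mul, eval_X]
    by_cases hy : y = 0
    · simp [hy]
    · simp [hcon y hy]
  have h1 : (Finset.univ : Finset F).card ≤ (h * X).roots.toFinset.card :=
    Finset.card_le_card fun y _ => Multiset.mem_toFinset.2 (hall y)
  have h2 := Multiset.toFinset_card_le (h * X).roots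
  have h3 := card_roots' (h * X)
  rw [natDegree_mul hne X_ne_zero, natDegree_X] at h3
  rw [Finset.card_univ] at h1
  omega

/-- The general position property forces the product of the leading coefficients to be a
non-scalar matrix. -/
theorem rankOne_prod_not_scalar (v φ : α × Bool → n → F)
    (hne : ∀ x y : α × Bool, (x.1 = y.1 → x.2 = y.2) → φ x ⬝ᵥ v y ≠ 0)
    (h0 : ∀ x : α × Bool, φ x ⬝ᵥ v (x.1, !x.2) = 0)
    (L : List (α × Bool)) (hL : FreeGroup.IsReduced L) (hnil : L ≠ []) (c : F) :
    (L.map fun x => vecMulVec (v x) (φ x)).prod ≠ c • (1 : Matrix n n F) := by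
  intro hP
  have main : ∀ L : List (α × Bool), FreeGroup.IsReduced L → ∀ hne' : L ≠ [],
      (L.map fun x => vecMulVec (v x) (φ x)).prod *ᵥ v (((L.getLast hne').1), !(L.getLast hne').2) = 0 ∧
      ∃ κ : F, κ ≠ 0 ∧
        (L.map fun x => vecMulVec (v x) (φ x)).prod *ᵥ v (L.getLast hne') = κ • v (L.head hne') := by
    intro L
    induction L with
    | nil => intro _ h; exact absurd rfl h
    | cons x L ih =>
      intro hred _
      cases L with
      | nil =>
        refine ⟨?_, φ x ⬝ᵥ v x, hne x x (fun _ => rfl), ?_⟩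
        · simp [Matrix.vecMulVec_mulVec, h0]
        · simp [Matrix.vecMulVec_mulVec]
      | cons y L =>
        obtain ⟨h1, h2⟩ := FreeGroup.isReduced_cons_cons.mp hred
        obtain ⟨i0, κ, hκ, i1⟩ := ih h2 (by simp)
        rw [List.getLast_cons (by simp : y :: L ≠ [])]
        simp only [List.map_cons (a := x), List.prod_cons (a := vecMulVec (v x) (φ x)),
          ← Matrix.mulVec_mulVec, List.head_cons]
        refine ⟨by rw [i0, Matrix.mulVec_zero], κ * (φ x ⬝ᵥ v y), mul_ne_zero hκ (hne x y h1), ?_⟩
        rw [i1, Matrix.mulVec_smul, Matrix.vecMulVec_mulVec, List.head_cons, op_smul_eq_smul,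
          smul_smul]
  obtain ⟨i0, κ, hκ, i1⟩ := main L hL hnil
  rw [hP, Matrix.smul_mulVec, Matrix.one_mulVec] at i0 i1
  have hv : ∀ x, v x ≠ 0 := fun x h => hne x x (fun _ => rfl) (by simp [h])
  rcases eq_or_ne c 0 with rfl | hc
  · rw [zero_smul] at i1
    exact smul_ne_zero hκ (hv _) i1.symm
  · exact smul_ne_zero hc (hv _) i0

/-- A reduced word in matrices `M x (y)` with leading coefficients in general position takes a
non-scalar value at some non-zero `y`, provided the field is big enough. -/
theorem exists_eval_prod_not_scalar (M : α × Bool → Matrix n n F[X]) (d : ℕ)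
    (hd : ∀ x i j, (M x i j).natDegree ≤ d) (v φ : α × Bool → n → F)
    (hlead : ∀ x, (M x).map (fun p => p.coeff d) = vecMulVec (v x) (φ x))
    (hne : ∀ x y : α × Bool, (x.1 = y.1 → x.2 = y.2) → φ x ⬝ᵥ v y ≠ 0)
    (h0 : ∀ x : α × Bool, φ x ⬝ᵥ v (x.1, !x.2) = 0)
    (L : List (α × Bool)) (hL : FreeGroup.IsReduced L) (hnil : L ≠ [])
    (hq : L.length * d + 1 < Fintype.card F) :
    ∃ y : F, y ≠ 0 ∧ ∀ c : F,
      (L.map fun x => (M x).map (Polynomial.eval y)).prod ≠ c • (1 : Matrix n n F) := by
  set P := (L.map M).prod with hPdef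
  obtain ⟨hdeg, hcoef⟩ := coeff_matrix_list_prod L M d hd
  rw [← hPdef, show (L.map fun x => (M x).map fun p => p.coeff d) =
    L.map fun x => vecMulVec (v x) (φ x) from List.map_congr_left fun x _ => hlead x] at hcoef
  set A := (L.map fun x => vecMulVec (v x) (φ x)).prod with hA
  have hns : ∀ c : F, A ≠ c • (1 : Matrix n n F) :=
    rankOne_prod_not_scalar v φ hne h0 L hL hnil
  have hco : ∀ i j, (P i j).coeff (L.length * d) = A i j := fun i j => by
    rw [← hcoef]; rfl
  have hev : ∀ y : F, (L.map fun x => (M x).map (Polynomial.eval y)).prod =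
      P.map (Polynomial.eval y) := fun y => by
    have h1 := map_list_prod ((Polynomial.evalRingHom y).mapMatrix (m := n)) (L.map M)
    rw [List.map_map] at h1
    exact h1.symm
  have hn : Nonempty n := by
    by_contra hn
    haveI := not_nonempty_iff.1 hn
    exact hns 0 (Subsingleton.elim _ _)
  obtain ⟨i₀⟩ := hn
  -- a polynomial combination of entries with non-zero top coefficient, vanishing on scalars
  obtain ⟨h, hhdeg, hhco, hhz⟩ : ∃ h : F[X], h.natDegree ≤ L.length * d ∧
      h.coeff (L.length * d) ≠ 0 ∧
      ∀ y c : F, P.map (Polynomial.eval y) = c • (1 : Matrix n n F) → h.eval y = 0 := by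
    by_cases hoff : ∃ i j, i ≠ j ∧ A i j ≠ 0
    · obtain ⟨i, j, hij, hA0⟩ := hoff
      refine ⟨P i j, hdeg i j, by rw [hco]; exact hA0, fun y c hyc => ?_⟩
      have h1 := congrFun (congrFun hyc i) j
      simpa [hij] using h1
    · push Not at hoff
      have : ∃ i, A i i ≠ A i₀ i₀ := by
        by_contra hd'
        push Not at hd'
        refine hns (A i₀ i₀) (Matrix.ext fun i j => ?_)
        by_cases hij : i = j
        · subst hij; simp [hd' i]
        · simp [hij, hoff i j hij]
      obtain ⟨i, hi⟩ := this
      refine ⟨P i i - P i₀ i₀, (natDegree_sub_le _ _).trans (max_le (hdeg i i) (hdeg i₀ i₀)),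
        by rw [coeff_sub, hco, hco]; exact sub_ne_zero.2 hi, fun y c hyc => ?_⟩
      have h1 := congrFun (congrFun hyc i) i
      have h2 := congrFun (congrFun hyc i₀) i₀
      simp at h1 h2
      simp [h1, h2]
  have hne0 : h ≠ 0 := fun e => hhco (by simp [e])
  obtain ⟨y, hy, hy'⟩ := exists_ne_zero_eval_ne_zero h hne0 (by omega)
  exact ⟨y, hy, fun c hc => hy' (hhz y c (by rw [← hev]; exact hc))⟩

end CfsgLib.Laws
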