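import Cfsg.Agent.Laws.LeadingTerm
import Mathlib.LinearAlgebra.Matrix.ProjectiveSpecialLinearGroup
import Mathlib.Data.Fintype.EquivFin

/-!
A non-trivial word is not a law of PSL₂ over a big finite field.
-/

set_option autoImplicit false

namespace CfsgLib.Laws

open Polynomial Matrix

/-- A word only involves finitely many letters. -/
theorem exists_fin_word (w : FreeGroup ℕ) (hw : w ≠ 1) :
    ∃ (M : ℕ) (r : ℕ → Fin M), FreeGroup.map r w ≠ 1 := by
  classical
  obtain ⟨b, hb⟩ : ∃ b : ℕ, ∀ x ∈ w.toWord, x.1 ≤ b :=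
    ⟨(w.toWord.map Prod.fst).toFinset.sup id, fun x hx =>
      Finset.le_sup (f := id) (List.mem_toFinset.2 (List.mem_map_of_mem hx))⟩
  refine ⟨b + 1, fun a => if h : a < b + 1 then ⟨a, h⟩ else 0, fun h => hw ?_⟩
  have h1 := map_lift (FreeGroup.map (Fin.val (n := b + 1)))
    (fun a => FreeGroup.of (if h : a < b + 1 then (⟨a, h⟩ : Fin (b + 1)) else 0)) w
  have h3 := DFunLike.congr_fun (FreeGroup.map_eq_lift
    (f := fun a => if h : a < b + 1 then (⟨a, h⟩ : Fin (b + 1)) else 0)) w
  simp only [Function.comp_def] at h3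
  rw [← h3, h, map_one] at h1
  have h2 : w = FreeGroup.lift (fun a : ℕ => FreeGroup.of a) w :=
    (FreeGroup.lift_of_apply w).symm
  rw [h2, lift_eq_prod]
  rw [lift_eq_prod] at h1
  refine Eq.trans (congrArg List.prod (List.map_congr_left fun x hx => ?_)) h1.symm
  have := hb x hx
  simp [letterVal, Nat.lt_succ_of_le this]

theorem lift_comp {α β : Type*} {G : Type*} [Group G] (r : α → β) (f : β → G)
    (w : FreeGroup α) :
    FreeGroup.lift (fun a => f (r a)) w = FreeGroup.lift f (FreeGroup.map r w) := by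
  have : (FreeGroup.lift f).comp (FreeGroup.map r) = FreeGroup.lift (fun a => f (r a)) :=
    FreeGroup.ext_hom _ _ (by simp)
  exact (DFunLike.congr_fun this w).symm

/-- In SL₂ over a big field, a non-trivial word takes a non-scalar value. -/
theorem exists_sl2_not_scalar {α : Type*} [DecidableEq α] [Fintype α] (w : FreeGroup α)
    (hw : w ≠ 1) (F : Type*) [Field F] [Fintype F]
    (hq : 2 * Fintype.card α ≤ Fintype.card F) (hq' : w.toWord.length * 2 + 1 < Fintype.card F) :
    ∃ f : α → Matrix.SpecialLinearGroup (Fin 2) F, ∀ c : F,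
      ((FreeGroup.lift f w : Matrix.SpecialLinearGroup (Fin 2) F) : Matrix (Fin 2) (Fin 2) F) ≠
        c • 1 := by
  classical
  obtain ⟨t⟩ : Nonempty (α × Bool ↪ F) :=
    Function.Embedding.nonempty_of_card_le (by simp [Fintype.card_prod]; omega)
  let v : α × Bool → Fin 2 → F := fun x => ![1, t x]
  let φ : α × Bool → Fin 2 → F := fun x =>
    ![-t (x.1, !x.2) / (t x - t (x.1, !x.2)), 1 / (t x - t (x.1, !x.2))]
  have hdiff : ∀ x, t x - t (x.1, !x.2) ≠ 0 := fun x h => by
    have := congrArg Prod.snd (t.injective (sub_eq_zero.1 h))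
    simp at this
  have hφv : ∀ x y, φ x ⬝ᵥ v y = (t y - t (x.1, !x.2)) / (t x - t (x.1, !x.2)) := fun x y => by
    simp [φ, v, Matrix.vec2_dotProduct]
    ring
  let A : α × Bool → Matrix (Fin 2) (Fin 2) F := fun x => vecMulVec (v x) (φ x)
  let M : α × Bool → Matrix (Fin 2) (Fin 2) F[X] := fun x =>
    Matrix.of fun i j => Polynomial.C (A x i j) * X ^ 2 + Polynomial.C (A (x.1, !x.2) i j)
  obtain ⟨y, hy, hys⟩ := exists_eval_prod_not_scalar M 2
    (fun x i j => by simp only [M, Matrix.of_apply]; compute_degree)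
    v φ
    (fun x => by ext i j; simp [M, A, coeff_C])
    (fun x y hxy => by
      rw [hφv]
      refine div_ne_zero (sub_ne_zero.2 fun h => ?_) (hdiff x)
      have h1 := t.injective h
      have h2 := hxy (by rw [h1])
      rw [h1] at h2
      simp at h2)
    (fun x => by rw [hφv]; simp)
    w.toWord FreeGroup.isReduced_toWord
    (by rw [Ne, FreeGroup.toWord_eq_nil_iff]; exact hw) hq'
  let g : α → Matrix.SpecialLinearGroup (Fin 2) F := fun a =>
    ⟨y • A (a, true) + y⁻¹ • A (a, false), by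
      have h1 := hdiff (a, true)
      have h2 : t (a, false) - t (a, true) ≠ 0 := hdiff (a, false)
      simp [Matrix.det_fin_two, A, v, φ, vecMulVec_apply] at h1 ⊢
      field_simp
      ring⟩
  refine ⟨g, fun c hc => ?_⟩
  have hlet : ∀ x, ((letterVal g x : Matrix.SpecialLinearGroup (Fin 2) F) :
      Matrix (Fin 2) (Fin 2) F) = y⁻¹ • (M x).map (Polynomial.eval y) := by
    rintro ⟨a, b⟩
    have h1 := hdiff (a, true)
    have h2 : t (a, false) - t (a, true) ≠ 0 := hdiff (a, false)
    cases b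
    · change (((g a)⁻¹ : Matrix.SpecialLinearGroup (Fin 2) F) : Matrix (Fin 2) (Fin 2) F) = _
      rw [Matrix.SpecialLinearGroup.coe_inv, Matrix.adjugate_fin_two]
      simp only [g]
      ext i j
      fin_cases i <;> fin_cases j <;>
        simp [M, A, v, φ, vecMulVec_apply] at h1 ⊢ <;> field_simp <;> ring
    · change ((g a : Matrix.SpecialLinearGroup (Fin 2) F) : Matrix (Fin 2) (Fin 2) F) = _
      simp only [g]
      ext i j
      simp [M, A]
      field_simp
  rw [lift_eq_prod] at hc
  have hcoe : ∀ l : List (Matrix.SpecialLinearGroup (Fin 2) F),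
      ((l.prod : Matrix.SpecialLinearGroup (Fin 2) F) : Matrix (Fin 2) (Fin 2) F) =
        (l.map fun z : Matrix.SpecialLinearGroup (Fin 2) F =>
          (z : Matrix (Fin 2) (Fin 2) F)).prod := fun l => by
    induction l with
    | nil => simp
    | cons z l ih => simp [ih]
  rw [hcoe, List.map_map] at hc
  simp only [Function.comp_def] at hc
  rw [prod_smul_eq w.toWord _ (fun x => (M x).map (Polynomial.eval y)) y⁻¹ hlet] at hc
  refine hys ((y⁻¹ ^ w.toWord.length)⁻¹ * c) ?_
  have hk : y⁻¹ ^ w.toWord.length ≠ 0 := pow_ne_zero _ (inv_ne_zero hy)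
  rw [mul_smul, ← hc, smul_smul, inv_mul_cancel₀ hk, one_smul]

/-- A non-trivial word is not a law of PSL₂ over a big finite field. -/
theorem exists_bound_psl2 (w : FreeGroup ℕ) (hw : w ≠ 1) :
    ∃ N : ℕ, ∀ (F : Type*) [Field F] [Fintype F], N ≤ Fintype.card F →
      ∃ f : ℕ → Matrix.ProjectiveSpecialLinearGroup (Fin 2) F, FreeGroup.lift f w ≠ 1 := by
  classical
  obtain ⟨M, r, hr⟩ := exists_fin_word w hw
  refine ⟨2 * M + (FreeGroup.map r w).toWord.length * 2 + 2, fun F _ _ hF => ?_⟩
  obtain ⟨f, hf⟩ := exists_sl2_not_scalar (FreeGroup.map r w) hr F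
    (by rw [Fintype.card_fin]; omega) (by omega)
  refine ⟨fun a => QuotientGroup.mk' (Subgroup.center _) (f (r a)), fun h => ?_⟩
  rw [← map_lift (QuotientGroup.mk' (Subgroup.center _)) (fun a => f (r a)) w,
    lift_comp r f, QuotientGroup.mk'_apply, QuotientGroup.eq_one_iff,
    Matrix.SpecialLinearGroup.mem_center_iff] at h
  obtain ⟨c, -, hc⟩ := h
  exact hf c (by rw [← hc]; simp [Matrix.smul_one_eq_diagonal])

end CfsgLib.Laws
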