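import Cfsg.Agent.Laws.SL2
import Cfsg.Prelude.Def_Sz

/-!
A non-trivial word is not a law of a big Suzuki group.
-/

set_option autoImplicit false

namespace CfsgLib.Laws

open Polynomial Matrix Cfsg.Lie

section

variable {F : Type*} [Field F] [Fintype F] {m : ℕ}

local notation "ee" => (2 ^ (m + 1) : ℕ)

theorem szPowSq (hF : Fintype.card F = 2 ^ (2 * m + 1)) (x : F) : (x ^ ee) ^ ee = x ^ 2 := by
  rw [← pow_mul, ← pow_add, show m + 1 + (m + 1) = (2 * m + 1) + 1 by omega, pow_succ, ← hF,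
    pow_mul, FiniteField.pow_card]

theorem szCharTwo (hF : Fintype.card F = 2 ^ (2 * m + 1)) : CharP F 2 := by
  refine (CharP.charP_iff_prime_eq_zero Nat.prime_two).2 ?_
  have h := Nat.cast_card_eq_zero F
  rw [hF, Nat.cast_pow] at h
  exact pow_eq_zero_iff (by omega) |>.1 h

theorem szCorner_ne_zero (hF : Fintype.card F = 2 ^ (2 * m + 1)) (c : F) :
    c ^ ee + c + 1 ≠ 0 := by
  haveI := szCharTwo hF
  haveI : Fact (Nat.Prime 2) := ⟨Nat.prime_two⟩
  intro h
  have h1 : c ^ ee = c + 1 := by linear_combination h - CharTwo.add_self_eq_zero (c + 1)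
  have h2 := szPowSq hF c
  rw [h1, add_pow_char_pow, one_pow, h1] at h2
  have h3 : c * (c - 1) = 0 := by linear_combination CharTwo.add_self_eq_zero (1 : F) - h2
  rcases mul_eq_zero.1 h3 with h4 | h4
  · subst h4; simp at h1
  · have : c = 1 := by linear_combination h4
    subst this
    simp [CharTwo.add_self_eq_zero] at h1

/-- The unipotent element `U(0,b)`. -/
def szUmat (b : F) (e : ℕ) : Matrix (Fin 4) (Fin 4) F :=
  !![1, 0, b, b ^ e; 0, 1, 0, b; 0, 0, 1, 0; 0, 0, 0, 1]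

/-- The Weyl element. -/
def szWmat (F : Type*) [Field F] : Matrix (Fin 4) (Fin 4) F :=
  !![0, 0, 0, 1; 0, 0, 1, 0; 0, 1, 0, 0; 1, 0, 0, 0]

/-- The torus element with parameter `y`. -/
def szDmat (y : F) (e : ℕ) : Matrix (Fin 4) (Fin 4) F :=
  !![y ^ (e + 1), 0, 0, 0; 0, y, 0, 0; 0, 0, y⁻¹, 0; 0, 0, 0, (y ^ (e + 1))⁻¹]

theorem szUmat_sq (hF : Fintype.card F = 2 ^ (2 * m + 1)) (b : F) :
    szUmat b ee * szUmat b ee = 1 := by
  haveI := szCharTwo hF
  ext i j
  fin_cases i <;> fin_cases j <;>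
    simp [szUmat, Matrix.mul_apply, Fin.sum_univ_four, CharTwo.add_self_eq_zero]

theorem szWmat_sq : szWmat F * szWmat F = 1 := by
  ext i j
  fin_cases i <;> fin_cases j <;> simp [szWmat, Matrix.mul_apply, Fin.sum_univ_four]

theorem szDmat_mul_inv {y : F} (hy : y ≠ 0) :
    szDmat y ee * szDmat y⁻¹ ee = 1 ∧ szDmat y⁻¹ ee * szDmat y ee = 1 := by
  constructor <;> ext i j <;> fin_cases i <;> fin_cases j <;>
    simp [szDmat, Matrix.mul_apply, Fin.sum_univ_four, hy]

theorem mem_sz_of_mat (g : GL (Fin 4) F)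
    (hform : ∀ u v : Fin 4 → F,
      altForm4 ((g : Matrix (Fin 4) (Fin 4) F) *ᵥ u) ((g : Matrix (Fin 4) (Fin 4) F) *ᵥ v) =
        altForm4 u v)
    (hstar : star4 (g : Matrix (Fin 4) (Fin 4) F) =
      (g : Matrix (Fin 4) (Fin 4) F).map (fun x => x ^ ee)) : g ∈ Sz F ee :=
  Subgroup.subset_closure ⟨hform, hstar⟩

theorem szU_mem (hF : Fintype.card F = 2 ^ (2 * m + 1)) (b : F) :
    ∃ g ∈ Sz F ee, (g : Matrix (Fin 4) (Fin 4) F) = szUmat b ee := by
  haveI := szCharTwo hF
  refine ⟨⟨szUmat b ee, szUmat b ee, szUmat_sq hF b, szUmat_sq hF b⟩, mem_sz_of_mat _ ?_ ?_, rfl⟩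
  · intro u v
    simp [szUmat, altForm4, Matrix.mulVec, dotProduct, Fin.sum_univ_four]
    linear_combination (b * u 2 * v 3 + b ^ ee * u 3 * v 3 + b * u 3 * v 2) *
      CharTwo.two_eq_zero (R := F)
  · ext i j
    fin_cases i <;> fin_cases j <;>
      simp [szUmat, star4, pairOf, szPowSq hF] <;>
      first
        | linear_combination (0 : F) * CharTwo.two_eq_zero (R := F)
        | linear_combination (-b ^ ee) * CharTwo.two_eq_zero (R := F)

theorem szW_mem (hF : Fintype.card F = 2 ^ (2 * m + 1)) :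
    ∃ g ∈ Sz F ee, (g : Matrix (Fin 4) (Fin 4) F) = szWmat F := by
  haveI := szCharTwo hF
  refine ⟨⟨szWmat F, szWmat F, szWmat_sq, szWmat_sq⟩, mem_sz_of_mat _ ?_ ?_, rfl⟩
  · intro u v
    simp [szWmat, altForm4, Matrix.mulVec, dotProduct, Fin.sum_univ_four]
    ring
  · ext i j
    fin_cases i <;> fin_cases j <;>
      simp [szWmat, star4, pairOf, CharTwo.neg_eq]

theorem szD_mem (hF : Fintype.card F = 2 ^ (2 * m + 1)) {y : F} (hy : y ≠ 0) :
    ∃ g ∈ Sz F ee, (g : Matrix (Fin 4) (Fin 4) F) = szDmat y ee ∧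
      ((g⁻¹ : GL (Fin 4) F) : Matrix (Fin 4) (Fin 4) F) = szDmat y⁻¹ ee := by
  haveI := szCharTwo hF
  refine ⟨⟨szDmat y ee, szDmat y⁻¹ ee, (szDmat_mul_inv hy).1, (szDmat_mul_inv hy).2⟩,
    mem_sz_of_mat _ ?_ ?_, rfl, rfl⟩
  · intro u v
    simp [szDmat, altForm4, Matrix.mulVec, dotProduct, Fin.sum_univ_four]
    field_simp
  · have h1 : (y ^ (ee + 1)) ^ ee = y ^ 2 * y ^ ee := by
      rw [← szPowSq hF y, pow_succ, mul_pow]
    ext i j
    fin_cases i <;> fin_cases j <;>
      simp [szDmat, star4, pairOf, inv_pow, h1] <;> field_simp <;> ring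

/-- A non-trivial word takes a non-identity value in a big Suzuki group. -/
theorem exists_sz_ne_one {α : Type*} [DecidableEq α] [Fintype α] (w : FreeGroup α) (hw : w ≠ 1)
    (hF : Fintype.card F = 2 ^ (2 * m + 1)) (hα : Fintype.card α ≤ Fintype.card F)
    (hq : w.toWord.length * (2 * ee + 2) + 1 < Fintype.card F) :
    ∃ f : α → Sz F ee, FreeGroup.lift f w ≠ 1 := by
  classical
  haveI := szCharTwo hF
  obtain ⟨b⟩ : Nonempty (α ↪ F) := Function.Embedding.nonempty_of_card_le hα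
  let T : α → Matrix (Fin 4) (Fin 4) F := fun a =>
    szUmat (b a) ee * szWmat F * szUmat 1 ee
  let S : α → Matrix (Fin 4) (Fin 4) F := fun a =>
    szUmat 1 ee * szWmat F * szUmat (b a) ee
  have hST : ∀ a, S a * T a = 1 := fun a => by
    simp only [S, T, Matrix.mul_assoc]
    rw [← Matrix.mul_assoc (szUmat (b a) ee), szUmat_sq hF, Matrix.one_mul,
      ← Matrix.mul_assoc (szWmat F), szWmat_sq, Matrix.one_mul, szUmat_sq hF]
  let idx : Bool → Fin 4 := fun s => if s then 0 else 3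
  let p : Bool → Fin 4 → F[X] := fun s =>
    if s then ![X ^ (2 * ee + 2), X ^ (ee + 2), X ^ ee, 1]
    else ![1, X ^ ee, X ^ (ee + 2), X ^ (2 * ee + 2)]
  let M : α × Bool → Matrix (Fin 4) (Fin 4) F[X] := fun x =>
    (T x.1).map Polynomial.C * Matrix.diagonal (p x.2) * (S x.1).map Polynomial.C
  have hp : ∀ s k, (p s k).natDegree ≤ 2 * ee + 2 := fun s k => by
    cases s <;> fin_cases k <;> simp [p, natDegree_pow] <;> omega
  have he : ee ≠ 0 := (pow_pos (by norm_num) _).ne'
  have hpc : ∀ s k, (p s k).coeff (2 * ee + 2) = if k = idx s then 1 else 0 := fun s k => by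
    cases s <;> fin_cases k <;> simp [p, idx, coeff_one, coeff_X_pow, he] <;> omega
  have hentry : ∀ x i j, M x i j =
      ∑ k, Polynomial.C (T x.1 i k) * p x.2 k * Polynomial.C (S x.1 k j) := fun x i j => by
    simp [M, Matrix.mul_apply, Matrix.diagonal]
  obtain ⟨y, hy, hys⟩ := exists_eval_prod_not_scalar M (2 * ee + 2)
    (fun x i j => by
      rw [hentry]
      refine natDegree_sum_le_of_forall_le _ _ fun k _ => ?_
      exact natDegree_mul_C_le _ _ |>.trans ((natDegree_C_mul_le _ _).trans (hp _ k)))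
    (fun x i => T x.1 i (idx x.2)) (fun x j => S x.1 (idx x.2) j)
    (fun x => by
      ext i j
      simp [hentry, finsetSum_coeff, hpc, vecMulVec_apply])
    (fun x z hxz => by
      have h1 : (fun j => S x.1 (idx x.2) j) ⬝ᵥ (fun i => T z.1 i (idx z.2)) =
          (S x.1 * T z.1) (idx x.2) (idx z.2) := rfl
      rw [h1]
      by_cases hab : x.1 = z.1
      · rw [← hab, hST, hxz hab]
        simp
      · have hne : b x.1 + b z.1 ≠ 0 := fun h => hab (b.injective (by
          rw [← CharTwo.sub_eq_add, sub_eq_zero] at h; exact h))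
        haveI : Fact (Nat.Prime 2) := ⟨Nat.prime_two⟩
        have hz := szCorner_ne_zero hF (b x.1 + b z.1)
        have hz' : (b x.1 + b z.1) ^ ee ≠ 0 := pow_ne_zero _ hne
        rw [add_pow_char_pow] at hz hz'
        rcases x with ⟨xa, _ | _⟩ <;> rcases z with ⟨za, _ | _⟩ <;>
          simp [S, T, idx, szUmat, szWmat, Matrix.mul_apply, Fin.sum_univ_four] at hz hz' ⊢ <;>
          intro hh <;>
          first
            | (apply hz
               linear_combination (norm := (ring_nf <;> simp [CharTwo.two_eq_zero])) hh)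
            | (apply hz'
               linear_combination (norm := (ring_nf <;> simp [CharTwo.two_eq_zero])) hh))
    (fun x => by
      have h1 : (fun j => S x.1 (idx x.2) j) ⬝ᵥ (fun i => T x.1 i (idx !x.2)) =
          (S x.1 * T x.1) (idx x.2) (idx !x.2) := rfl
      rw [h1, hST]
      rcases x with ⟨xa, _ | _⟩ <;> simp [idx])
    w.toWord FreeGroup.isReduced_toWord
    (by rw [Ne, FreeGroup.toWord_eq_nil_iff]; exact hw) hq
  choose U hUmem hUmat using szU_mem hF
  obtain ⟨W, hWmem, hWmat⟩ := szW_mem hF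
  obtain ⟨D, hDmem, hDmat, hDinv⟩ := szD_mem hF hy
  have hinv : ∀ a, ((U (b a) * W * U 1)⁻¹ : GL (Fin 4) F) = U 1 * W * U (b a) := fun a => by
    refine inv_eq_of_mul_eq_one_left (Units.ext ?_)
    simp only [Units.val_mul, hUmat, hWmat, Units.val_one]
    exact hST a
  let g : α → Sz F ee := fun a =>
    ⟨U (b a) * W * U 1 * D * (U (b a) * W * U 1)⁻¹, by
      have := mul_mem (mul_mem (hUmem (b a)) hWmem) (hUmem 1)
      exact mul_mem (mul_mem this hDmem) (inv_mem this)⟩
  refine ⟨g, fun h => ?_⟩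
  let θ : Sz F ee →* Matrix (Fin 4) (Fin 4) F := (Units.coeHom _).comp (Sz F ee).subtype
  have hlet : ∀ x, θ (letterVal g x) = (y ^ (ee + 1))⁻¹ • (M x).map (Polynomial.eval y) := by
    rintro ⟨a, s⟩
    have hM : (M (a, s)).map (Polynomial.eval y) =
        T a * Matrix.diagonal (fun k => (p s k).eval y) * S a := by
      ext i j
      simp [hentry, Matrix.mul_apply, Matrix.diagonal, eval_finsetSum]
    have hD : ∀ s, (y ^ (ee + 1))⁻¹ • Matrix.diagonal (fun k => (p s k).eval y) =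
        szDmat (if s then y else y⁻¹) ee := fun s => by
      ext i j
      cases s <;> fin_cases i <;> fin_cases j <;> simp [p, szDmat, hy] <;> field_simp <;> ring
    rw [hM, ← Matrix.smul_mul, ← Matrix.mul_smul, hD]
    cases s
    · change (((g a).1⁻¹ : GL (Fin 4) F) : Matrix (Fin 4) (Fin 4) F) = _
      simp only [g]
      rw [conj_inv, hinv]
      simp only [Units.val_mul, hUmat, hWmat, hDinv, Bool.false_eq_true, if_false, T, S]
    · change ((g a).1 : Matrix (Fin 4) (Fin 4) F) = _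
      simp only [g, hinv]
      simp only [Units.val_mul, hUmat, hWmat, hDmat, if_true, T, S, Matrix.mul_assoc]
  rw [lift_eq_prod] at h
  have h2 := congrArg θ h
  rw [map_one, map_list_prod, List.map_map] at h2
  simp only [Function.comp_def] at h2
  rw [prod_smul_eq w.toWord _ (fun x => (M x).map (Polynomial.eval y)) _ hlet] at h2
  have hk : ((y ^ (ee + 1))⁻¹) ^ w.toWord.length ≠ 0 :=
    pow_ne_zero _ (inv_ne_zero (pow_ne_zero _ hy))
  refine hys ((((y ^ (ee + 1))⁻¹) ^ w.toWord.length)⁻¹) ?_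
  rw [← h2, smul_smul, inv_mul_cancel₀ hk, one_smul]

end

/-- A non-trivial word is not a law of a big Suzuki group. -/
theorem exists_bound_suzuki (w : FreeGroup ℕ) (hw : w ≠ 1) :
    ∃ N : ℕ, ∀ (F : Type*) [Field F] [Fintype F] (m : ℕ), 1 ≤ m → N ≤ m →
      Fintype.card F = 2 ^ (2 * m + 1) →
      ∃ f : ℕ → Sz F (2 ^ (m + 1)), FreeGroup.lift f w ≠ 1 := by
  classical
  obtain ⟨M, r, hr⟩ := exists_fin_word w hw
  refine ⟨M + 2 * (FreeGroup.map r w).toWord.length + 4, fun F _ _ m _ hm hF => ?_⟩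
  have h1 : m < 2 ^ m := Nat.lt_two_pow_self
  have h2 : 2 ^ (2 * m + 1) = 2 * (2 ^ m * 2 ^ m) := by ring
  have h3 : 2 ^ (m + 1) = 2 * 2 ^ m := by ring
  obtain ⟨f, hf⟩ := exists_sz_ne_one (FreeGroup.map r w) hr hF
    (by rw [Fintype.card_fin, hF, h2]; nlinarith) (by
      rw [hF, h2, h3]
      nlinarith [Nat.mul_le_mul_right (2 ^ m)
        (show 2 * (FreeGroup.map r w).toWord.length + 2 ≤ 2 ^ m by omega)])
  exact ⟨fun a => f (r a), by rwa [lift_comp r f]⟩

end CfsgLib.Laws
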