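import Cfsg.Agent.Laws.Classical
import Mathlib.FieldTheory.Finite.Basic
import Mathlib.RingTheory.IntegralDomain

/-!
SU_n over the field with q² elements contains an alternating group of degree n and a copy of SL₂
over a subfield with about q elements.
-/

set_option autoImplicit false

namespace CfsgLib.Laws.Classical

open Matrix Cfsg

variable {F : Type} [Field F] [Fintype F] {q : ℕ}

theorem exists_pow_eq_of_pow_eq_one (a b : ℕ) (h : a * b = Fintype.card F - 1) (hb : b ≠ 0)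
    (x : Fˣ) (hx : x ^ b = 1) : ∃ y : Fˣ, y ^ a = x := by
  classical
  obtain ⟨g, hg⟩ := IsCyclic.exists_generator (α := Fˣ)
  obtain ⟨i, rfl⟩ := Submonoid.mem_powers_iff x g |>.1
    ((mem_powers_iff_mem_zpowers (x := g)).2 (hg x))
  have hord : orderOf g = Fintype.card F - 1 := by
    rw [orderOf_eq_card_of_forall_mem_zpowers hg, Nat.card_eq_fintype_card, Fintype.card_units]
  have hdvd : a * b ∣ i * b := by
    rw [h, ← hord]; exact orderOf_dvd_of_pow_eq_one (by rw [pow_mul]; exact hx)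
  obtain ⟨c, hc⟩ := (Nat.mul_dvd_mul_iff_right (Nat.pos_of_ne_zero hb)).1 hdvd
  exact ⟨g ^ c, by rw [← pow_mul, hc, mul_comm]⟩

/-- `x ↦ x ^ q` as a ring homomorphism, for `|F| = q²`. -/
theorem exists_qFrob (hF : Fintype.card F = q ^ 2) :
    ∃ σ : F →+* F, (∀ x, σ x = x ^ q) ∧ ∀ x, σ (σ x) = x := by
  obtain ⟨p, hp⟩ := CharP.exists F
  obtain ⟨k, hprime, hk⟩ := FiniteField.card F p
  have hdvd : q ∣ p ^ (k : ℕ) := by rw [← hk, hF]; exact dvd_pow_self q (by norm_num)
  obtain ⟨j, -, hj⟩ := (Nat.dvd_prime_pow hprime).1 hdvd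
  haveI : Fact p.Prime := ⟨hprime⟩
  refine ⟨iterateFrobenius F p j, fun x => by rw [iterateFrobenius_def, hj], fun x => ?_⟩
  rw [iterateFrobenius_def, iterateFrobenius_def, ← pow_mul, ← hj, ← pow_two, ← hF,
    FiniteField.pow_card]

theorem hermForm_permutation {n : ℕ} (π : Equiv.Perm (Fin n)) (u v : Fin n → F) :
    hermForm n F q (Matrix.permMatrixHom (R := F) π *ᵥ u)
      (Matrix.permMatrixHom (R := F) π *ᵥ v) = hermForm n F q u v := by
  simp only [Matrix.permMatrixHom_apply, Matrix.permMatrix_mulVec, hermForm, Function.comp_apply]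
  exact Equiv.sum_comp π⁻¹ (fun i => u i * v i ^ q)

theorem exists_alt_to_SU (n : ℕ) :
    ∃ φ : alternatingGroup (Fin n) →* SU n F q, Function.Injective φ :=
  ⟨(altToSL n).codRestrict (SU n F q) (fun σ u v => by
      change hermForm n F q (Matrix.permMatrixHom (R := F) (σ : Equiv.Perm (Fin n)) *ᵥ u)
        (Matrix.permMatrixHom (R := F) (σ : Equiv.Perm (Fin n)) *ᵥ v) = _
      exact hermForm_permutation _ u v),
    fun a b h => altToSL_injective n (congrArg Subtype.val h)⟩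

/-- SU_n(q) contains SL₂ over a subfield of size at least `q - 1`. -/
theorem exists_sl2_to_SU (n : ℕ) (hn : 2 ≤ n) (hF : Fintype.card F = q ^ 2) :
    ∃ (K : Type) (_ : Field K) (_ : Fintype K), q - 1 ≤ Fintype.card K ∧
      ∃ φ : Matrix.SpecialLinearGroup (Fin 2) K →* SU n F q, Function.Injective φ := by
  classical
  obtain ⟨σ, hσ, hσσ⟩ := exists_qFrob hF
  have hq : 2 ≤ q := by
    have h1 : 1 < q ^ 2 := hF ▸ Fintype.one_lt_card
    by_contra hq
    interval_cases q <;> simp at h1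
  have hcard : Fintype.card F - 1 = (q + 1) * (q - 1) := by
    obtain ⟨j, rfl⟩ := Nat.exists_eq_add_of_le hq
    rw [hF]
    have : (2 + j) ^ 2 = (2 + j + 1) * (1 + j) + 1 := by ring
    rw [show 2 + j - 1 = 1 + j by omega, this, Nat.add_sub_cancel]
  let K := RingHom.eqLocusField σ (RingHom.id F)
  letI : Fintype K := Fintype.ofFinite K
  refine ⟨K, inferInstance, inferInstance, ?_, ?_⟩
  · -- the norms give q - 1 elements of K
    obtain ⟨g, hg⟩ := IsCyclic.exists_generator (α := Fˣ)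
    have hord : orderOf g = (q + 1) * (q - 1) := by
      rw [orderOf_eq_card_of_forall_mem_zpowers hg, Nat.card_eq_fintype_card, Fintype.card_units,
        hcard]
    have hmem : ∀ i : ℕ, ((g ^ ((q + 1) * i) : Fˣ) : F) ∈ K := fun i => by
      change σ _ = _
      rw [hσ, RingHom.id_apply, ← Units.val_pow_eq_pow_val, ← pow_mul,
        show (q + 1) * i * q = (q + 1) * i + (q + 1) * (q - 1) * i by
          obtain ⟨j, rfl⟩ := Nat.exists_eq_add_of_le hq
          rw [show 2 + j - 1 = 1 + j by omega]; ring,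
        pow_add, pow_mul g ((q + 1) * (q - 1)), ← hord, pow_orderOf_eq_one, one_pow, mul_one]
    have hinj : Function.Injective (fun i : Fin (q - 1) => (⟨_, hmem i⟩ : K)) := by
      intro i j hij
      have h1 : g ^ ((q + 1) * (i : ℕ)) = g ^ ((q + 1) * (j : ℕ)) :=
        Units.ext (congrArg Subtype.val hij)
      have h2 : ∀ t : Fin (q - 1), (q + 1) * (t : ℕ) < orderOf g := fun t => by
        rw [hord]; exact Nat.mul_lt_mul_of_pos_left t.isLt (by omega)
      have h3 := pow_injOn_Iio_orderOf (x := g) (h2 i) (h2 j) h1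
      exact Fin.ext (Nat.eq_of_mul_eq_mul_left (by omega) h3)
    simpa using Fintype.card_le_of_injective _ hinj
  -- isotropic vectors (1, c), (1, d) and a trace zero δ
  have hneg : ((-1 : Fˣ)) ^ (q + 1) = 1 ∧ ((-1 : Fˣ)) ^ (q - 1) = 1 := by
    have h1 : ((-1 : Fˣ)) ^ q = -1 := Units.ext (by
      rw [Units.val_pow_eq_pow_val, Units.val_neg, Units.val_one, ← hσ, map_neg, map_one])
    refine ⟨by rw [pow_succ, h1]; simp, ?_⟩
    have h2 : ((-1 : Fˣ)) ^ (q - 1) * (-1) = -1 := by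
      rw [← pow_succ, show q - 1 + 1 = q by omega, h1]
    simpa using h2
  obtain ⟨c, hc⟩ := exists_pow_eq_of_pow_eq_one (q + 1) (q - 1) hcard.symm (by omega) (-1) hneg.2
  obtain ⟨δ, hδ⟩ := exists_pow_eq_of_pow_eq_one (q - 1) (q + 1) (by rw [hcard]; ring) (by omega)
    (-1) hneg.1
  obtain ⟨ζ, hζ, hζ1⟩ : ∃ ζ : Fˣ, ζ ^ (q + 1) = 1 ∧ ζ ≠ 1 := by
    obtain ⟨g, hg⟩ := IsCyclic.exists_generator (α := Fˣ)
    have hord : orderOf g = (q + 1) * (q - 1) := by
      rw [orderOf_eq_card_of_forall_mem_zpowers hg, Nat.card_eq_fintype_card, Fintype.card_units,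
        hcard]
    refine ⟨g ^ (q - 1), by rw [← pow_mul, mul_comm, ← hord, pow_orderOf_eq_one], fun h => ?_⟩
    have h1 := Nat.le_of_dvd (by omega) (orderOf_dvd_of_pow_eq_one h)
    rw [hord] at h1
    nlinarith [Nat.sub_add_cancel (show 1 ≤ q by omega)]
  set c' : F := (c : F) with hc'
  set d' : F := ((c * ζ : Fˣ) : F) with hd'
  have hcn : c' * σ c' = -1 := by
    rw [hσ, hc', ← pow_succ', ← Units.val_pow_eq_pow_val, hc]; simp
  have hdn : d' * σ d' = -1 := by
    rw [hσ, hd', ← pow_succ', ← Units.val_pow_eq_pow_val, mul_pow, hc, hζ]; simp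
  have hcd : c' ≠ d' := fun h => hζ1 (by
    have h1 : c = c * ζ := Units.ext h
    exact (mul_eq_left.1 h1.symm))
  have hδ' : σ (δ : F) = -(δ : F) := by
    rw [hσ]
    have h1 : δ ^ q = -δ := by
      rw [show q = q - 1 + 1 by omega, pow_succ, hδ]; simp
    simpa using congrArg Units.val h1
  have hδ0 : (1 : F) + c' * σ d' ≠ 0 := fun h => hcd (by
    have h1 : σ d' ≠ 0 := (map_ne_zero σ).2 (Units.ne_zero _)
    exact mul_right_cancel₀ h1 (by linear_combination h - hdn))
  set lam : F := σ ((δ : F) / (1 + c' * σ d')) with hlam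
  have hlamne : lam ≠ 0 := (map_ne_zero σ).2 (div_ne_zero (Units.ne_zero _) hδ0)
  have hef : σ lam * (1 + c' * σ d') = (δ : F) := by
    rw [hlam, hσσ, div_mul_cancel₀ _ hδ0]
  have hfe : lam * (1 + d' * σ c') = -(δ : F) := by
    rw [← hδ', ← hef, map_mul, hσσ]
    simp [hσσ, mul_comm]
  -- change of basis
  let C : Matrix (Fin 2) (Fin 2) F := !![1, lam; c', lam * d']
  have hC : IsUnit C.det := by
    rw [isUnit_iff_ne_zero]
    simp only [C, Matrix.det_fin_two_of]
    intro h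
    exact hcd (mul_left_cancel₀ hlamne (by linear_combination -h))
  have hform : ∀ u v : Fin 2 → F,
      (C *ᵥ u) 0 * σ ((C *ᵥ v) 0) + (C *ᵥ u) 1 * σ ((C *ᵥ v) 1) =
        (δ : F) * (u 0 * σ (v 1) - u 1 * σ (v 0)) := fun u v => by
    simp [C, Matrix.mulVec, dotProduct, Fin.sum_univ_two]
    linear_combination (u 0 * σ (v 0)) * hcn + (u 1 * σ (v 1) * lam * σ lam) * hdn +
      (u 0 * σ (v 1)) * hef + (u 1 * σ (v 0)) * hfe
  let S : Matrix.SpecialLinearGroup (Fin 2) K →* Matrix.SpecialLinearGroup (Fin 2) F :=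
    Matrix.SpecialLinearGroup.map K.subtype
  let conjC : Matrix.SpecialLinearGroup (Fin 2) F →* Matrix.SpecialLinearGroup (Fin 2) F :=
    { toFun := fun g => ⟨C * (g : Matrix (Fin 2) (Fin 2) F) * C⁻¹, by
        rw [Matrix.det_conj ((Matrix.isUnit_iff_isUnit_det C).2 hC)]; exact g.2⟩
      map_one' := Subtype.ext (by simp [Matrix.mul_nonsing_inv C hC])
      map_mul' := fun g h => Subtype.ext (by
        change C * ((g : Matrix (Fin 2) (Fin 2) F) * (h : Matrix (Fin 2) (Fin 2) F)) * C⁻¹ =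
          (C * (g : Matrix (Fin 2) (Fin 2) F) * C⁻¹) * (C * (h : Matrix (Fin 2) (Fin 2) F) * C⁻¹)
        simp [Matrix.mul_assoc, ← Matrix.mul_assoc C⁻¹ C, Matrix.nonsing_inv_mul C hC]) }
  let e : Fin 2 ⊕ Fin (n - 2) ≃ Fin n := finSumFinEquiv.trans (finCongr (by omega))
  let φ : Matrix.SpecialLinearGroup (Fin 2) K →* Matrix.SpecialLinearGroup (Fin n) F :=
    (slBlock e).comp (conjC.comp S)
  have hmem : ∀ g, φ g ∈ SU n F q := by
    intro g u v
    set N : Matrix (Fin 2) (Fin 2) F :=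
      C * ((S g : Matrix.SpecialLinearGroup (Fin 2) F) : Matrix (Fin 2) (Fin 2) F) * C⁻¹ with hN
    have hN2 : ∀ u v : Fin 2 → F, ∑ i, (N *ᵥ u) i * σ ((N *ᵥ v) i) = ∑ i, u i * σ (v i) := by
      intro u v
      obtain ⟨u', rfl⟩ : ∃ u', C *ᵥ u' = u :=
        ⟨C⁻¹ *ᵥ u, by rw [Matrix.mulVec_mulVec, Matrix.mul_nonsing_inv C hC, Matrix.one_mulVec]⟩
      obtain ⟨v', rfl⟩ : ∃ v', C *ᵥ v' = v :=
        ⟨C⁻¹ *ᵥ v, by rw [Matrix.mulVec_mulVec, Matrix.mul_nonsing_inv C hC, Matrix.one_mulVec]⟩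
      simp only [hN, Matrix.mulVec_mulVec, Matrix.mul_assoc, Matrix.nonsing_inv_mul C hC,
        Matrix.mul_one]
      simp only [← Matrix.mulVec_mulVec, Fin.sum_univ_two, hform]
      congr 1
      have hK : ∀ i j, σ (((g : Matrix (Fin 2) (Fin 2) K) i j : K) : F) =
          (((g : Matrix (Fin 2) (Fin 2) K) i j : K) : F) := fun i j =>
        ((g : Matrix (Fin 2) (Fin 2) K) i j).2
      have hdet : (((g : Matrix (Fin 2) (Fin 2) K) 0 0 : K) : F) *
          ((g : Matrix (Fin 2) (Fin 2) K) 1 1 : K) - ((g : Matrix (Fin 2) (Fin 2) K) 0 1 : K) *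
          ((g : Matrix (Fin 2) (Fin 2) K) 1 0 : K) = 1 := by
        have h1 := g.2
        rw [Matrix.det_fin_two] at h1
        simpa using congrArg Subtype.val h1
      simp [S, Matrix.mulVec, dotProduct, Fin.sum_univ_two, hK]
      linear_combination (u' 0 * σ (v' 1) - u' 1 * σ (v' 0)) * hdet
    have hcomp : ∀ w : Fin n → F, ∀ x, ((φ g : Matrix (Fin n) (Fin n) F) *ᵥ w) (e x) =
        (Matrix.fromBlocks N 0 0 (1 : Matrix (Fin (n - 2)) (Fin (n - 2)) F) *ᵥ (w ∘ e)) x := by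
      intro w x
      change ((Matrix.reindex e e
        (Matrix.fromBlocks N 0 0 (1 : Matrix (Fin (n - 2)) (Fin (n - 2)) F))) *ᵥ w) (e x) = _
      rw [Matrix.reindex_apply, Matrix.submatrix_mulVec_equiv]
      simp
    simp only [hermForm, ← hσ]
    change ∑ i, ((φ g : Matrix (Fin n) (Fin n) F) *ᵥ u) i *
      σ (((φ g : Matrix (Fin n) (Fin n) F) *ᵥ v) i) = _
    rw [← Equiv.sum_comp e, ← Equiv.sum_comp e (fun i => u i * σ (v i))]
    simp only [hcomp, Fintype.sum_sum_type, Matrix.fromBlocks_mulVec, Matrix.zero_mulVec, add_zero,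
      zero_add, Matrix.one_mulVec, Sum.elim_inl, Sum.elim_inr, hN2, Function.comp_apply]
  refine ⟨φ.codRestrict _ hmem, fun a b h => ?_⟩
  have h1 : conjC (S a) = conjC (S b) := slBlock_injective e (congrArg Subtype.val h)
  have h1' : C * ((S a : Matrix.SpecialLinearGroup (Fin 2) F) : Matrix (Fin 2) (Fin 2) F) * C⁻¹ =
      C * ((S b : Matrix.SpecialLinearGroup (Fin 2) F) : Matrix (Fin 2) (Fin 2) F) * C⁻¹ :=
    congrArg Subtype.val h1
  have h2 := congrArg (fun M : Matrix (Fin 2) (Fin 2) F => C⁻¹ * M * C) h1'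
  simp [Matrix.mul_assoc, Matrix.nonsing_inv_mul C hC, ← Matrix.mul_assoc C⁻¹ C] at h2
  refine Subtype.ext (Matrix.ext fun i j => K.subtype.injective ?_)
  have h3 := congrFun (congrFun h2 i) j
  simpa [S] using h3

end CfsgLib.Laws.Classical
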